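import Groth.Agent.L02.Hilb.CurvePoints
import Groth.Prelude.Def_W4c6dblnestedhilbptsFlags

/-!
# Flags of relative divisors and their edge data
-/

set_option autoImplicit false

noncomputable section

universe u

open CategoryTheory AlgebraicGeometry HilbD

namespace Groth.L11.DnFlag

variable {X S : Scheme.{u}} (f : X ⟶ S) [SmoothOfRelativeDimension 1 f]

theorem eff {d : ℕ} {I : X.IdealSheafData} (h : IsDivOfDeg f d I) : BlowUp.IsEffCartierIdeal I :=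
  ((Groth.L02.RelCartier.main_curve f I).2 h.1).1

theorem cancel {d : ℕ} {I J K : X.IdealSheafData} (h : IsDivOfDeg f d I) (e : I * J = I * K) : J = K :=
  Groth.L02.Hilb.eq_of_mul_eq_mul (eff f h) e

theorem mul_deg {a b : ℕ} {I J : X.IdealSheafData} (hI : IsDivOfDeg f a I) (hJ : IsDivOfDeg f b J) :
    IsDivOfDeg f (a + b) (I * J) :=
  Groth.L02.RelCartier.isFinLocFreeOfDeg_mul f I J a b hI hJ

omit [SmoothOfRelativeDimension 1 f] in
theorem mul_le (I J : X.IdealSheafData) : I * J ≤ I := fun U => by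
  rw [Scheme.IdealSheafData.ideal_mul, Pi.mul_apply]; exact Ideal.mul_le_left

/-- Nested divisors of the same degree agree. -/
theorem eq_of_le {d : ℕ} {I J : X.IdealSheafData} (hI : IsDivOfDeg f d I) (hJ : IsDivOfDeg f d J) (h : J ≤ I) :
    J = I := by
  obtain ⟨K, hK, rfl⟩ := Groth.L02.RelCartier.exists_isFinLocFreeOfDeg_quot f I J h d d hI hJ
  rw [Nat.sub_self] at hK
  rw [Groth.L02.Hilb.eq_top_of_deg_zero f K hK]
  exact mul_one I

variable (μ : YoungDiagram) (n : ℕ × ℕ → ℕ) (hn : IsRevPlanePartition μ n)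

section FromFlag

variable (h00 : ((0, 0) : ℕ × ℕ) ∈ μ) (Z : ∀ c : ℕ × ℕ, c ∈ μ → X.IdealSheafData) (hZ : IsDnFlag f μ n Z)

include hZ in
theorem exists_step (c c' : ℕ × ℕ) (hc : c ∈ μ) (hc' : c' ∈ μ) (h : c ≤ c') :
    ∃ I, IsDivOfDeg f (n c' - n c) I ∧ Z c' hc' = Z c hc * I :=
  Groth.L02.RelCartier.exists_isFinLocFreeOfDeg_quot f _ _ (hZ.2 c c' hc hc' h) _ _ (hZ.1 c hc) (hZ.1 c' hc')

include hZ in
theorem existsUnique_edges : ∃! E : DnEdgeData μ X, E.IsOfType f n ∧ E.IsEdgesOf h00 Z := by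
  choose v hv hv' using fun (c : ℕ × ℕ) (hc : c ∈ μ) =>
    exists_step f μ n Z hZ (c.1 - 1, c.2) c (mem_up hc) hc ⟨Nat.sub_le c.1 1, le_rfl⟩
  choose w hw hw' using fun (c : ℕ × ℕ) (hc : c ∈ μ) =>
    exists_step f μ n Z hZ (c.1, c.2 - 1) c (mem_left hc) hc ⟨le_rfl, Nat.sub_le c.2 1⟩
  refine ⟨⟨Z (0, 0) h00, fun c hc _ => v c hc, fun c hc _ => w c hc⟩,
    ⟨⟨hZ.1 _ h00, fun c hc _ => hv c hc, fun c hc _ => hw c hc⟩, rfl, fun c hc _ => hv' c hc, fun c hc _ => hw' c hc⟩, ?_⟩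
  rintro ⟨b, v₁, w₁⟩ ⟨-, hb, hv₁, hw₁⟩
  obtain rfl : b = Z (0, 0) h00 := hb.symm
  congr 1
  · funext c hc hi
    exact cancel f (hZ.1 _ (mem_up hc)) ((hv₁ c hc hi).symm.trans (hv' c hc))
  · funext c hc hj
    exact cancel f (hZ.1 _ (mem_left hc)) ((hw₁ c hc hj).symm.trans (hw' c hc))

include hZ in
theorem gamma_eq {E : DnEdgeData μ X} (hE : E.IsEdgesOf h00 Z) (c : ℕ × ℕ) (hc : c ∈ μ) (hi : 1 ≤ c.1)
    (hj : 1 ≤ c.2) : E.gammaOne c hc hi hj = E.gammaTwo c hc hi hj := by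
  have h1 := hE.2.1 c hc hi
  rw [hE.2.2 (c.1 - 1, c.2) (mem_up hc) hj] at h1
  have h2 := hE.2.2 c hc hj
  rw [hE.2.1 (c.1, c.2 - 1) (mem_left hc) hi] at h2
  have hm : ((c.1 - 1, c.2 - 1) : ℕ × ℕ) ∈ μ := mem_left (mem_up hc)
  refine cancel f (hZ.1 _ hm) ?_
  calc Z _ hm * E.gammaOne c hc hi hj
      = Z _ hm * E.horiz (c.1 - 1, c.2) (mem_up hc) hj * E.vert c hc hi := by
        rw [DnEdgeData.gammaOne, mul_comm (E.vert c hc hi), mul_assoc]
    _ = Z c hc := h1.symm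
    _ = Z _ hm * E.vert (c.1, c.2 - 1) (mem_left hc) hi * E.horiz c hc hj := h2
    _ = Z _ hm * E.gammaTwo c hc hi hj := by
        rw [DnEdgeData.gammaTwo, mul_comm (E.horiz c hc hj), mul_assoc]

end FromFlag

section FromEdges

variable (E : DnEdgeData μ X)

open Classical in
/-- The vertical step, extended outside the diagram by the unit. -/
def vExt (c : ℕ × ℕ) : X.IdealSheafData := if h : c ∈ μ ∧ 1 ≤ c.1 then E.vert c h.1 h.2 else 1

open Classical in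
/-- The horizontal step, extended outside the diagram by the unit. -/
def hExt (c : ℕ × ℕ) : X.IdealSheafData := if h : c ∈ μ ∧ 1 ≤ c.2 then E.horiz c h.1 h.2 else 1

/-- The flag built row by row. -/
def flag : ℕ → ℕ → X.IdealSheafData
  | 0, 0 => E.base
  | i + 1, 0 => flag i 0 * vExt μ E (i + 1, 0)
  | i, j + 1 => flag i j * hExt μ E (i, j + 1)

omit [SmoothOfRelativeDimension 1 f] in
theorem flag_vert (i : ℕ) (hg : ∀ (c : ℕ × ℕ) (hc : c ∈ μ) (hi : 1 ≤ c.1) (hj : 1 ≤ c.2),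
      E.gammaOne c hc hi hj = E.gammaTwo c hc hi hj) :
    ∀ j, ((i + 1, j) : ℕ × ℕ) ∈ μ → flag μ E (i + 1) j = flag μ E i j * vExt μ E (i + 1, j)
  | 0, _ => by rw [flag]
  | j + 1, hc => by
    have hl : ((i + 1, j) : ℕ × ℕ) ∈ μ := mem_left hc
    have hu : ((i, j + 1) : ℕ × ℕ) ∈ μ := mem_up hc
    have h := hg (i + 1, j + 1) hc (by simp) (by simp)
    simp only [DnEdgeData.gammaOne, DnEdgeData.gammaTwo, Nat.add_sub_cancel] at h
    rw [flag, flag_vert i hg j hl]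
    rw [show flag μ E i (j + 1) = flag μ E i j * hExt μ E (i, j + 1) by rw [flag]]
    rw [vExt, dif_pos ⟨hl, by simp⟩, hExt, dif_pos ⟨hc, by simp⟩, hExt, dif_pos ⟨hu, by simp⟩,
      vExt, dif_pos ⟨hc, by simp⟩, mul_assoc, mul_assoc, mul_comm (E.vert (i + 1, j) _ _), ← h,
      mul_comm (E.vert (i + 1, j + 1) _ _)]

include hn in
theorem existsUnique_flag (h00 : ((0, 0) : ℕ × ℕ) ∈ μ) (hE : E.IsOfType f n)
    (hcomm : ∀ (c : ℕ × ℕ) (hc : c ∈ μ) (hi : 1 ≤ c.1) (hj : 1 ≤ c.2),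
      E.gammaOne c hc hi hj ≤ E.gammaTwo c hc hi hj) :
    ∃! Z : ∀ c : ℕ × ℕ, c ∈ μ → X.IdealSheafData, IsDnFlag f μ n Z ∧ E.IsEdgesOf h00 Z := by
  have le_up : ∀ (c : ℕ × ℕ) (hc : c ∈ μ), n (c.1 - 1, c.2) ≤ n c := fun c hc =>
    hn (mem_up hc) hc ⟨Nat.sub_le c.1 1, le_rfl⟩
  have le_left : ∀ (c : ℕ × ℕ) (hc : c ∈ μ), n (c.1, c.2 - 1) ≤ n c := fun c hc =>
    hn (mem_left hc) hc ⟨le_rfl, Nat.sub_le c.2 1⟩
  have hg : ∀ (c : ℕ × ℕ) (hc : c ∈ μ) (hi : 1 ≤ c.1) (hj : 1 ≤ c.2),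
      E.gammaOne c hc hi hj = E.gammaTwo c hc hi hj := by
    intro c hc hi hj
    have d1 := mul_deg f (hE.2.1 c hc hi) (hE.2.2 (c.1 - 1, c.2) (mem_up hc) hj)
    have d2 := mul_deg f (hE.2.2 c hc hj) (hE.2.1 (c.1, c.2 - 1) (mem_left hc) hi)
    refine eq_of_le f ?_ d1 (hcomm c hc hi hj)
    have a1 := le_up c hc
    have a2 := le_left c hc
    have a3 : n (c.1 - 1, c.2 - 1) ≤ n (c.1 - 1, c.2) := le_left (c.1 - 1, c.2) (mem_up hc)
    have a4 : n (c.1 - 1, c.2 - 1) ≤ n (c.1, c.2 - 1) := le_up (c.1, c.2 - 1) (mem_left hc)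
    rw [show n c - n (c.1 - 1, c.2) + (n (c.1 - 1, c.2) - n (c.1 - 1, c.2 - 1)) =
      n c - n (c.1, c.2 - 1) + (n (c.1, c.2 - 1) - n (c.1 - 1, c.2 - 1)) by omega]
    exact d2
  have hh : ∀ i j, ((i, j + 1) : ℕ × ℕ) ∈ μ → flag μ E i (j + 1) = flag μ E i j * hExt μ E (i, j + 1) :=
    fun i j _ => by rw [flag]
  have hdeg : ∀ m i j, i + j = m → ((i, j) : ℕ × ℕ) ∈ μ → IsDivOfDeg f (n (i, j)) (flag μ E i j) := by
    intro m
    induction m with
    | zero =>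
      intro i j hm _
      obtain ⟨rfl, rfl⟩ : i = 0 ∧ j = 0 := by omega
      rw [flag]
      exact hE.1
    | succ m ih =>
      intro i j hm hc
      cases j with
      | succ j =>
        have h1 := mul_deg f (ih i j (by omega) (mem_left hc)) (hE.2.2 _ hc (by simp))
        have h2 := le_left _ hc
        simp only [Nat.add_sub_cancel] at h1 h2
        rw [Nat.add_sub_cancel' h2] at h1
        rw [hh i j hc, hExt, dif_pos ⟨hc, by simp⟩]
        exact h1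
      | zero =>
        obtain ⟨i, rfl⟩ : ∃ i', i = i' + 1 := ⟨i - 1, by omega⟩
        have h1 := mul_deg f (ih i 0 (by omega) (mem_up hc)) (hE.2.1 _ hc (by simp))
        have h2 := le_up _ hc
        simp only [Nat.add_sub_cancel] at h1 h2
        rw [Nat.add_sub_cancel' h2] at h1
        rw [flag_vert μ E i hg 0 hc, vExt, dif_pos ⟨hc, by simp⟩]
        exact h1
  have hmono : ∀ i j, ((i + 1, j) : ℕ × ℕ) ∈ μ → flag μ E (i + 1) j ≤ flag μ E i j := fun i j hc => by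
    rw [flag_vert μ E i hg j hc]; exact mul_le _ _
  have hmono' : ∀ i j, ((i, j + 1) : ℕ × ℕ) ∈ μ → flag μ E i (j + 1) ≤ flag μ E i j := fun i j hc => by
    rw [hh i j hc]; exact mul_le _ _
  have chain : ∀ a b i j, ((i + a, j + b) : ℕ × ℕ) ∈ μ → flag μ E (i + a) (j + b) ≤ flag μ E i j := by
    intro a
    induction a with
    | zero =>
      intro b
      induction b with
      | zero => intro i j _; exact le_refl _
      | succ b ih => intro i j hc; exact (hmono' i (j + b) hc).trans (ih i j (mem_left hc))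
    | succ a ih => intro b i j hc; exact (hmono (i + a) (j + b) hc).trans (ih b i j (mem_up hc))
  refine ⟨fun c _ => flag μ E c.1 c.2, ⟨⟨fun c hc => hdeg _ c.1 c.2 rfl hc, ?_⟩, ?_, ?_, ?_⟩, ?_⟩
  · rintro ⟨i, j⟩ ⟨i', j'⟩ hc hc' ⟨hi, hj⟩
    obtain ⟨a, rfl⟩ := Nat.exists_eq_add_of_le (show i ≤ i' from hi)
    obtain ⟨b, rfl⟩ := Nat.exists_eq_add_of_le (show j ≤ j' from hj)
    exact chain a b i j hc'
  · show flag μ E 0 0 = E.base
    rw [flag]
  · rintro ⟨i, j⟩ hc hi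
    obtain ⟨i, rfl⟩ : ∃ i', i = i' + 1 := ⟨i - 1, by simp only at hi; omega⟩
    show flag μ E (i + 1) j = flag μ E i j * E.vert (i + 1, j) hc hi
    rw [flag_vert μ E i hg j hc, vExt, dif_pos ⟨hc, hi⟩]
  · rintro ⟨i, j⟩ hc hj
    obtain ⟨j, rfl⟩ : ∃ j', j = j' + 1 := ⟨j - 1, by simp only at hj; omega⟩
    show flag μ E i (j + 1) = flag μ E i j * E.horiz (i, j + 1) hc hj
    rw [hh i j hc, hExt, dif_pos ⟨hc, hj⟩]
  · rintro Z ⟨-, hb, hv, hw⟩
    suffices h : ∀ m i j, i + j = m → ∀ hc : ((i, j) : ℕ × ℕ) ∈ μ, Z (i, j) hc = flag μ E i j by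
      funext c hc; exact h _ c.1 c.2 rfl hc
    intro m
    induction m with
    | zero =>
      intro i j hm hc
      obtain ⟨rfl, rfl⟩ : i = 0 ∧ j = 0 := by omega
      rw [flag]
      exact hb
    | succ m ih =>
      intro i j hm hc
      cases j with
      | succ j =>
        rw [hw _ hc (by simp), hh i j hc, hExt, dif_pos ⟨hc, by simp⟩]
        simp only [Nat.add_sub_cancel]
        rw [ih i j (by omega) (mem_left hc)]
      | zero =>
        obtain ⟨i, rfl⟩ : ∃ i', i = i' + 1 := ⟨i - 1, by omega⟩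
        rw [hv _ hc (by simp), flag_vert μ E i hg 0 hc, vExt, dif_pos ⟨hc, by simp⟩]
        simp only [Nat.add_sub_cancel]
        rw [ih i 0 (by omega) (mem_up hc)]

end FromEdges

end Groth.L11.DnFlag
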